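import Mathlib
import Cfsg.Prelude.Def_GeometricClasses
import Cfsg.Agent.Lib.Helper27.ASC.Defs
import Cfsg.Agent.Lib.Helper19.ASG.Defs

/-!
# Project ASG, block D2T (sub-leader helper9) : shared definitions

`ptMat c` : the pure tensor (Kronecker product) of the `m × m` matrices `c i`, `i : Fin t`, as a matrix indexed by
functions `Fin t → Fin m` (entries: the product of the entries of the factors, exactly as in `Cfsg.Geo.IsPureTensor`).
`ptMat (Pi.mulSingle i a)` is `1 ⊗ ⋯ ⊗ a ⊗ ⋯ ⊗ 1` (`a` in position `i`).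
`dcomm K` : the double commutant of the subgroup `K` in the matrix algebra.
`cjHom h θ` : the algebra homomorphism `a ↦ h (θ a) h⁻¹`.
-/

set_option autoImplicit false

namespace Cfsg.Agent.Lib.Helper19.ASG

open Cfsg Cfsg.Geo Cfsg.Agent.Lib.Helper27.ASC
open scoped MatrixGroups Matrix

variable {n : ℕ} {F : Type*} [Field F]

/-- the pure tensor of the matrices `c i` -/
def ptMat {m t : ℕ} (c : Fin t → Matrix (Fin m) (Fin m) F) : Matrix (Fin t → Fin m) (Fin t → Fin m) F :=
  Matrix.of fun x y => ∏ i, c i (x i) (y i)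

theorem ptMat_apply {m t : ℕ} (c : Fin t → Matrix (Fin m) (Fin m) F) (x y : Fin t → Fin m) :
    ptMat c x y = ∏ i, c i (x i) (y i) := rfl

/-- the double commutant of `K` -/
abbrev dcomm (K : Subgroup (GL (Fin n) F)) : Subalgebra F (Matrix (Fin n) (Fin n) F) :=
  Subalgebra.centralizer F (centAlg K : Set (Matrix (Fin n) (Fin n) F))

/-- `a ↦ h (θ a) h⁻¹` -/
def cjHom {m : ℕ} (h : GL (Fin n) F) (θ : Matrix (Fin m) (Fin m) F →ₐ[F] Matrix (Fin n) (Fin n) F) :
    Matrix (Fin m) (Fin m) F →ₐ[F] Matrix (Fin n) (Fin n) F where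
  toFun a := (h : Matrix (Fin n) (Fin n) F) * θ a * ((h⁻¹ : GL (Fin n) F) : Matrix (Fin n) (Fin n) F)
  map_one' := by rw [map_one, mul_one, ← Units.val_mul, mul_inv_cancel, Units.val_one]
  map_mul' a b := by
    have e : ((h⁻¹ : GL (Fin n) F) : Matrix (Fin n) (Fin n) F) * (h : Matrix (Fin n) (Fin n) F) = 1 := by
      rw [← Units.val_mul, inv_mul_cancel, Units.val_one]
    rw [map_mul]
    calc (h : Matrix (Fin n) (Fin n) F) * (θ a * θ b) * ((h⁻¹ : GL (Fin n) F) : Matrix (Fin n) (Fin n) F)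
        = (h : Matrix (Fin n) (Fin n) F) * θ a * (((h⁻¹ : GL (Fin n) F) : Matrix (Fin n) (Fin n) F) *
            (h : Matrix (Fin n) (Fin n) F)) * θ b * ((h⁻¹ : GL (Fin n) F) : Matrix (Fin n) (Fin n) F) := by
          rw [e, mul_one]; simp only [mul_assoc]
      _ = _ := by simp only [mul_assoc]
  map_zero' := by rw [map_zero, mul_zero, zero_mul]
  map_add' a b := by rw [map_add, mul_add, add_mul]
  commutes' r := by
    rw [AlgHom.commutes, Algebra.algebraMap_eq_smul_one, Matrix.mul_smul, Matrix.smul_mul, mul_one,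
      ← Units.val_mul, mul_inv_cancel, Units.val_one]

theorem cjHom_apply {m : ℕ} (h : GL (Fin n) F) (θ : Matrix (Fin m) (Fin m) F →ₐ[F] Matrix (Fin n) (Fin n) F)
    (a : Matrix (Fin m) (Fin m) F) :
    cjHom h θ a = (h : Matrix (Fin n) (Fin n) F) * θ a * ((h⁻¹ : GL (Fin n) F) : Matrix (Fin n) (Fin n) F) := rfl

end Cfsg.Agent.Lib.Helper19.ASG
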